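import Cfsg.Agent.Spor.J4mN1.D0

set_option autoImplicit false
set_option maxRecDepth 100000000
set_option Elab.async false

namespace Cfsg.Agent.Spor.J4mN1

theorem ok0 : Net.okb 1 n0 = true := by decide +kernel

theorem ok1 : Net.okb 1 n1 = true := by decide +kernel

theorem ok2 : Net.okb 1 n2 = true := by decide +kernel

theorem ok3 : Net.okb 1 n3 = true := by decide +kernel

theorem ok4 : Net.okb 1 n4 = true := by decide +kernel

theorem rel0 : T.rel 1 [1, 1] 0 1 = true := by decide +kernel

theorem rel1 : T.rel 1 [2, 2] 0 1 = true := by decide +kernel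

theorem rel2 : T.rel 1 [3, 3] 0 1 = true := by decide +kernel

theorem rel3 : T.rel 1 [4, 4] 0 1 = true := by decide +kernel

theorem rel4 : T.rel 1 [5, 5, 5] 0 1 = true := by decide +kernel

theorem rel5 : T.rel 1 [1, 5, 1, 5] 0 1 = true := by decide +kernel

theorem rel6 : T.rel 1 [3, 5, 3, 5, 3, 5, 3, 5, 3, 5] 0 1 = true := by decide +kernel

theorem rel7 : T.rel 1 [1, 3, 1, 6, 3, 5, 3, 1, 3, 6, 3, 5] 0 1 = true := by decide +kernel

theorem rel8 : T.rel 1 [2, 1, 2, 6, 2, 5, 1] 0 1 = true := by decide +kernel

theorem rel9 : T.rel 1 [2, 3, 5, 3, 2, 3, 6, 3] 0 1 = true := by decide +kernel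

theorem rel10 : T.rel 1 [2, 1, 3, 2, 1, 3, 2, 1, 3] 0 1 = true := by decide +kernel

theorem rel11 : T.rel 1 [4, 1, 5, 4, 6, 1] 0 1 = true := by decide +kernel

theorem rel12 : T.rel 1 [4, 1, 2, 3, 2, 1, 4, 1, 3, 2, 3, 2, 1] 0 1 = true := by decide +kernel

theorem rel13 : T.rel 1 [4, 3, 5, 4, 6, 3, 6, 4, 5] 0 1 = true := by decide +kernel

theorem rel14 : T.rel 1 [4, 3, 2, 1] 0 1 = true := by decide +kernel

theorem hcov : T.treeCov (ones 1) L 1 = true := by decide +kernel

theorem hg : lall (fun z => band (memL L z) (band (sub (ones 1) (T.let z).cl) (T.closed (ones 1) z))) gs = true := by decide +kernel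

theorem hivk : ivOk (2 * 4) EX IV = true := by decide +kernel

theorem hrt : RT.ok (2 * 4) EX RL = true := by decide +kernel

theorem hdefs : defs F 25 = true := by decide +kernel

noncomputable def st0_l : List Nat := [nat_lit 0xc0000100001403, nat_lit 0xe0000100000003, nat_lit 0x900004402, nat_lit 0x160000200001c03, nat_lit 0x180000300000003, nat_lit 0x6400076000010000280005c00072000190001d80000409, nat_lit 0x180001e80001403, nat_lit 0x1e00001802, nat_lit 0x1f0000ec02, nat_lit 0x50000640000c0000100001400086000010002000000000084000040000180003c0d, nat_lit 0x2200005002, nat_lit 0x42000230000d403, nat_lit 0x10c00092000010000180003c0008e000430002480000409, nat_lit 0x470002580000003, nat_lit 0x20002500010c03, nat_lit 0x2500001002, nat_lit 0x260000d402, nat_lit 0x2700000802, nat_lit 0x2700004402, nat_lit 0x2700004c02, nat_lit 0x2000000000520000080002405, nat_lit 0x500015000002000540000080002c06, nat_lit 0x2c000004000a8000010002a00016406, nat_lit 0x560000080002c03, nat_lit 0x15800002000410000000015c05, nat_lit 0x30800170000c0000560002a80002406,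 nat_lit 0xb0000480002b800188000ac000490002980016408, nat_lit 0x580000080002403, nat_lit 0x5a0003400017c03, nat_lit 0x14000500000480016800010000510002080002c08, nat_lit 0xc20006c00030000194000d60005e00034800168000d00005f000350001900c, nat_lit 0x1a4000c80006e000328001a0000cc00069000320001b8000ca0006b000348001680d, nat_lit 0xca000700002f8001c404, nat_lit 0xe4000360003880002004, nat_lit 0x1d0000c8000730003a80015005, nat_lit 0x8001dc02, nat_lit 0x1e0000d0001e403, nat_lit 0x220000e00008403, nat_lit 0x260000e00006803, nat_lit 0x280003d8001f803, nat_lit 0xa4001020007f0003c80006c0003e00029000408001fc09, nat_lit 0x7f0004100007803, nat_lit 0x410001ec02, nat_lit 0x420001fc02, nat_lit 0x200004200009803, nat_lit 0x24000450001f003, nat_lit 0x4500008002, nat_lit 0x4600009002, nat_lit 0x74000460009100011800244000380008e0000e000068001100001a0003c0002180d, nat_lit 0xd80024c02, nat_lit 0x2a0004a8001e403, nat_lit 0x2c0004b8000ac03, nat_lit 0xb4001320002a0003c800254000560002d0004c8000a809, nat_lit 0x1580026c02, nat_lit 0x780004a00027003, nat_lit 0xb8000f20009f0003c8000bc05,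 nat_lit 0x30000170001e403, nat_lit 0x1700028802, nat_lit 0x51800250000f0000940003c00028806, nat_lit 0x1460009c000178002800005c0009c0004f00028808, nat_lit 0xa00001880029803, nat_lit 0x18800298000600002e0004a8000bc06, nat_lit 0x29c00154000ad000188002a400060000ab000538002a80015a00031000548000c00d, nat_lit 0x15c000a40005700028c04, nat_lit 0x178002c402]
theorem st0 : band (steps F IV RT base st0_l 25) (Nat.beq (Nat.add 25 (llen st0_l)) 90) = true := by decide +kernel

theorem ep0a : T.treePath [] (Nat.shiftLeft 1 0) 1 = true := by decide +kernel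

theorem ep0b : T.treePath [] (Nat.shiftLeft 1 0) 1 = true := by decide +kernel

theorem ep0c : band (lall (fun z => Nat.ble z 255) ([] ++ 1 :: [])) (concl F IV 90 0x1e001 (encA ([] ++ 1 :: []) 0)) = true := by decide +kernel

theorem ep0d : band (Rule.ok (2 * 4) EX [] ⟨lapp [] [], [], 0, false⟩) (band (lall (memL L) []) (lall (memL L) [])) = true := by decide +kernel

theorem cov1 : T.cover 1 [(Nat.shiftLeft 1 0)] = true := by decide +kernel

theorem tl1 : Nat.beq (T.let 1).tt 0 = true := by decide +kernel

theorem ep1a : T.treePath [] (Nat.shiftLeft 1 0) 1 = true := by decide +kernel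

theorem ep1b : T.treePath [] (Nat.shiftLeft 1 0) 1 = true := by decide +kernel

theorem ep1c : band (lall (fun z => Nat.ble z 255) ([] ++ 2 :: [])) (concl F IV 90 0x25001 (encA ([] ++ 2 :: []) 0)) = true := by decide +kernel

theorem ep1d : band (Rule.ok (2 * 4) EX [] ⟨lapp [] [], [], 0, false⟩) (band (lall (memL L) []) (lall (memL L) [])) = true := by decide +kernel

theorem cov2 : T.cover 2 [(Nat.shiftLeft 1 0)] = true := by decide +kernel

theorem tl2 : Nat.beq (T.let 2).tt 0 = true := by decide +kernel

theorem ep2a : T.treePath [] (Nat.shiftLeft 1 0) 1 = true := by decide +kernel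

theorem ep2b : T.treePath [] (Nat.shiftLeft 1 0) 1 = true := by decide +kernel

theorem ep2c : band (lall (fun z => Nat.ble z 255) ([] ++ 3 :: [])) (concl F IV 90 0x27001 (encA ([] ++ 3 :: []) 0)) = true := by decide +kernel

theorem ep2d : band (Rule.ok (2 * 4) EX [] ⟨lapp [] [], [], 0, false⟩) (band (lall (memL L) []) (lall (memL L) [])) = true := by decide +kernel

theorem cov3 : T.cover 3 [(Nat.shiftLeft 1 0)] = true := by decide +kernel

theorem tl3 : Nat.beq (T.let 3).tt 0 = true := by decide +kernel

theorem rot4_1 : T.rot 4 [3, 2, 1] (sel (ones 1) ip4 1) = true := by decide +kernel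

theorem rot4_1r : band (Rule.ok (2 * 4) EX RL ⟨4 :: [3, 2, 1], [], 10, true⟩) (lall (memL L) [3, 2, 1]) = true := by decide +kernel

theorem cov4 : T.cover 4 [(sel (ones 1) ip4 1)] = true := by decide +kernel

theorem tl4 : Nat.beq (T.let 4).tt 0 = true := by decide +kernel

theorem ep3a : T.treePath [] (Nat.shiftLeft 1 0) 1 = true := by decide +kernel

theorem ep3b : T.treePath [] (Nat.shiftLeft 1 0) 1 = true := by decide +kernel

theorem ep3c : band (lall (fun z => Nat.ble z 255) ([] ++ 5 :: [])) (concl F IV 90 0x2c801 (encA ([] ++ 5 :: []) 0)) = true := by decide +kernel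

theorem ep3d : band (Rule.ok (2 * 4) EX [] ⟨lapp [] [], [], 0, false⟩) (band (lall (memL L) []) (lall (memL L) [])) = true := by decide +kernel

theorem cov5 : T.cover 5 [(Nat.shiftLeft 1 0)] = true := by decide +kernel

theorem tl5 : Nat.beq (T.let 5).tt 0 = true := by decide +kernel

theorem rot6_1 : T.rot 6 [2, 5, 1, 2, 1, 2] (sel (ones 1) ip6 1) = true := by decide +kernel

theorem rot6_1r : band (Rule.ok (2 * 4) EX RL ⟨6 :: [2, 5, 1, 2, 1, 2], [2, 0, 2], 4, true⟩) (lall (memL L) [2, 5, 1, 2, 1, 2]) = true := by decide +kernel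

theorem cov6 : T.cover 6 [(sel (ones 1) ip6 1)] = true := by decide +kernel

theorem tl6 : Nat.beq (T.let 6).tt 0 = true := by decide +kernel

end Cfsg.Agent.Spor.J4mN1
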