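import Cfsg.Agent.Spor.Chk

set_option autoImplicit false
set_option maxRecDepth 100000000
set_option Elab.async false
noncomputable section

namespace Cfsg.Agent.Spor.J4mN1

def n0 : Net := Net.nil

def n1 : Net := Net.nil

def n2 : Net := Net.nil

def n3 : Net := Net.nil

def n4 : Net := Net.nil

def ip1 : List Nat := []
def l1 : Let := ⟨0, false, 0x1, 0x0, [0x0]⟩

def ip2 : List Nat := []
def l2 : Let := ⟨1, false, 0x1, 0x0, [0x0]⟩

def ip3 : List Nat := []
def l3 : Let := ⟨2, false, 0x1, 0x0, [0x0]⟩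

def ip4 : List Nat := [0x1]
def l4 : Let := ⟨3, false, 0x1, 0x0, [0x1]⟩

def ip5 : List Nat := []
def l5 : Let := ⟨4, false, 0x1, 0x0, [0x0]⟩

def ip6 : List Nat := [0x1]
def l6 : Let := ⟨4, true, 0x1, 0x0, [0x1]⟩

def F : Nat := nat_lit 0x50000000000000001800018000001900018020001800019030001800019040001900019020001900019050001800000050001900018040001800000040000000000030000000000000001600016020001700000040001600000020000000000000000e0000f03000120000e040000f0001200000130000f000001100000030000e0000004000000000e000001400000000001000014020001500000030001400011030001200000040001000000010000000000000000100001000000500005000000900005000000a0000903000090000604000060000a030000500005010000a0000a040000a0000502000090000904000090000601000090000a020000a0000602000060000504000050000a060000000009050000000001020000000000040000000001030000100000000000200000000000800001000000300000030000000003010000800008000000b00000020000300001040000100003000000d00001000000400000020000d00004010000c00009060000a00000040000800003040000700019010001800018050000000017010001600016030000000015010001000014040000f00013030000f00012020000f00011040000e00010030000e0000f010000e0000e02000000000d03000040000c02000030000b01000030000a0600002000090500002000080300002000070100002000060600001000050500001000040400001000030300001000020200001000010100000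

def rt0_15 : RTree := RTree.node 0x60606 ⟨[6, 6, 6], [], 0, false⟩ (RTree.node 0x404 ⟨[4, 4], [], 11, false⟩ (RTree.node 0x202 ⟨[2, 2], [], 11, false⟩ (RTree.node 0x101 ⟨[1, 1], [], 11, false⟩ (RTree.leaf) (RTree.leaf)) (RTree.node 0x303 ⟨[3, 3], [], 11, false⟩ (RTree.leaf) (RTree.leaf))) (RTree.node 0x605 ⟨[6, 5], [], 11, false⟩ (RTree.node 0x506 ⟨[5, 6], [], 11, false⟩ (RTree.leaf) (RTree.leaf)) (RTree.node 0x50505 ⟨[5, 5, 5], [], 0, true⟩ (RTree.leaf) (RTree.leaf)))) (RTree.node 0x2010403 ⟨[2, 1, 4, 3], [0, 2], 10, true⟩ (RTree.node 0x1050105 ⟨[1, 5, 1, 5], [], 1, true⟩ (RTree.node 0x1040302 ⟨[1, 4, 3, 2], [0], 10, true⟩ (RTree.leaf) (RTree.leaf)) (RTree.node 0x1060106 ⟨[1, 6, 1, 6], [0], 1, false⟩ (RTree.leaf) (RTree.leaf))) (RTree.node 0x3020104 ⟨[3, 2, 1, 4], [6], 10, true⟩ (RTree.node 0x2030401 ⟨[2, 3, 4, 1], [0], 10, false⟩ (RTree.leaf) (RTree.leaf)) (RTree.node 0x3040102 ⟨[3, 4, 1, 2], [6, 4], 10, false⟩ (RTree.leaf)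 (RTree.leaf))))
def rt16_30 : RTree := RTree.node 0x10302010302010302 ⟨[1, 3, 2, 1, 3, 2, 1, 3, 2], [2], 6, true⟩ (RTree.node 0x2050102010206 ⟨[2, 5, 1, 2, 1, 2, 6], [0, 8, 2], 4, true⟩ (RTree.node 0x5010501 ⟨[5, 1, 5, 1], [8], 1, true⟩ (RTree.node 0x4030201 ⟨[4, 3, 2, 1], [], 10, true⟩ (RTree.leaf) (RTree.leaf)) (RTree.node 0x40601040105 ⟨[4, 6, 1, 4, 1, 5], [0, 9], 7, false⟩ (RTree.leaf) (RTree.leaf))) (RTree.node 0x2060205010201 ⟨[2, 6, 2, 5, 1, 2, 1], [2, 0], 4, true⟩ (RTree.node 0x2050201020106 ⟨[2, 5, 2, 1, 2, 1, 6], [0, 8], 4, false⟩ (RTree.leaf) (RTree.leaf)) (RTree.node 0x10203010203010203 ⟨[1, 2, 3, 1, 2, 3, 1, 2, 3], [4], 6, false⟩ (RTree.leaf) (RTree.leaf)))) (RTree.node 0x3020302010401020302010401 ⟨[3, 2, 3, 2, 1, 4, 1, 2, 3, 2, 1, 4, 1], [0, 2, 4, 2, 4], 8, true⟩ (RTree.node 0x40504030504060306 ⟨[4, 5, 4, 3, 5, 4, 6, 3, 6], [8, 6], 9, true⟩ (RTree.node 0x30201030201030201 ⟨[3, 2, 1, 3, 2, 1, 3, 2, 1], [4], 6, true⟩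 (RTree.leaf) (RTree.leaf)) (RTree.node 0x1040102030203010401020302 ⟨[1, 4, 1, 2, 3, 2, 3, 1, 4, 1, 2, 3, 2], [6, 0], 8, false⟩ (RTree.leaf) (RTree.leaf))) (RTree.node 0x4010302030201040102030201 ⟨[4, 1, 3, 2, 3, 2, 1, 4, 1, 2, 3, 2, 1], [6, 0, 2, 4, 2, 0], 8, true⟩ (RTree.node 0x4010203020104010302030201 ⟨[4, 1, 2, 3, 2, 1, 4, 1, 3, 2, 3, 2, 1], [], 8, true⟩ (RTree.leaf) (RTree.leaf)) (RTree.leaf)))
def rt0_30 : RTree := RTree.node 0x4010203 ⟨[4, 1, 2, 3], [6], 10, false⟩ (rt0_15) (rt16_30)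
def RT : RTree := rt0_30

def NT : List Net := [n0, n1, n2, n3, n4]
def LT : List Let := [⟨0, false, 0, 0, []⟩, l1, l2, l3, l4, l5, l6]
def T : Tab := ⟨NT, LT⟩
def EX : List (List Nat) := [[], [0], [2], [4], [6], [8], [9]]
def RL : List (List Nat) := [[8, 8, 8], [8, 0, 8, 0], [8, 4, 8, 4, 8, 4, 8, 4, 8, 4], [8, 4, 9, 4, 0, 4, 8, 4, 9, 0, 4, 0], [0, 8, 2, 9, 2, 0, 2], [4, 9, 4, 2, 4, 8, 4, 2], [4, 0, 2, 4, 0, 2, 4, 0, 2], [0, 9, 6, 8, 0, 6], [0, 2, 4, 2, 4, 0, 6, 0, 2, 4, 2, 0, 6], [8, 6, 9, 4, 9, 6, 8, 4, 6], [0, 2, 4, 6]]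
def XL : List (List Nat) := []
def BW : List (List Nat) := []
def IV : Nat := 0x5060403020100
def L : List Nat := [1, 2, 3, 4, 5, 6]
def gs : List Nat := [1, 2, 3, 4, 5]
def base : List Nat := []

end Cfsg.Agent.Spor.J4mN1
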